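import Mathlib
import Cfsg.Agent.Lib.FixedPointFree.Basic
import Cfsg.Agent.Lib.PSolvable.FrattiniFacts
import Cfsg.Agent.Lib.BGAppendix.FittingHall
import Cfsg.Agent.Lib.PGroups.Frattini
import Cfsg.Agent.Lib.Cores.PCore

/-!
A coprime automorphism of prime order of a soluble group generated by its commutators is
fixed-point-free, provided the normal closures of the cyclic commutator closures are.
-/

set_option autoImplicit false
set_option maxHeartbeats 800000
set_option linter.all false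

namespace CfsgLib.MetacyclicP.TwoGen

open CfsgLib.FixedPointFree

universe u

variable {G H : Type u} [Group G] [Group H]

/-- The invariant closure of the commutator of `k` with `φ`. -/
def orb (φ : G ≃* G) (k : G) : Subgroup G :=
  Subgroup.closure {x | ∃ i : ℕ, x = φ^[i] (k⁻¹ * φ k)}

/-- The normal closure of `orb φ k` in the group it generates with `u`. -/
def ncl (φ : G ≃* G) (k u : G) : Subgroup G :=
  Subgroup.closure
    {x | ∃ y ∈ Subgroup.closure ((orb φ k : Set G) ∪ {u}), ∃ b ∈ orb φ k, x = y * b * y⁻¹}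

/-- The subgroup generated by the commutators of `K` with `φ`. -/
def comm (φ : G ≃* G) (K : Subgroup G) : Subgroup G :=
  Subgroup.closure {x | ∃ h ∈ K, x = h⁻¹ * φ h}

/-- All normal closures have no nontrivial fixed point. -/
def NclFPF (φ : G ≃* G) : Prop :=
  ∀ k u : G, φ u = u → ∀ v ∈ ncl φ k u, φ v = v → v = 1

theorem self_mem_orb (φ : G ≃* G) (k : G) : k⁻¹ * φ k ∈ orb φ k :=
  Subgroup.subset_closure ⟨0, rfl⟩

theorem orb_le_ncl (φ : G ≃* G) (k u : G) : orb φ k ≤ ncl φ k u := fun b hb =>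
  Subgroup.subset_closure ⟨1, one_mem _, b, hb, by simp⟩

theorem invariant_closure (φ : G ≃* G) {s : Set G}
    (hs : ∀ x ∈ s, φ x ∈ Subgroup.closure s) : Invariant φ (Subgroup.closure s) := by
  intro x hx
  have : (Subgroup.closure s).map φ.toMonoidHom ≤ Subgroup.closure s := by
    rw [MonoidHom.map_closure, Subgroup.closure_le]
    rintro _ ⟨y, hy, rfl⟩
    exact hs y hy
  exact this ⟨x, hx, rfl⟩

theorem invariant_orb (φ : G ≃* G) (k : G) : Invariant φ (orb φ k) := by
  refine invariant_closure φ ?_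
  rintro _ ⟨i, rfl⟩
  exact Subgroup.subset_closure ⟨i + 1, (Function.iterate_succ_apply' _ _ _).symm⟩

theorem invariant_ncl {φ : G ≃* G} {k u : G} (hu : φ u = u) : Invariant φ (ncl φ k u) := by
  refine invariant_closure φ ?_
  rintro _ ⟨y, hy, b, hb, rfl⟩
  refine Subgroup.subset_closure ⟨φ y, ?_, φ b, invariant_orb φ k b hb, by simp⟩
  refine invariant_closure φ ?_ y hy
  rintro z (hz | hz)
  · exact Subgroup.subset_closure (Or.inl (invariant_orb φ k z hz))
  · rw [Set.mem_singleton_iff] at hz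
    subst hz
    rw [hu]
    exact Subgroup.subset_closure (Or.inr rfl)

theorem invariant_comm {φ : G ≃* G} {K : Subgroup G} (hK : Invariant φ K) :
    Invariant φ (comm φ K) := by
  refine invariant_closure φ ?_
  rintro _ ⟨h, hh, rfl⟩
  exact Subgroup.subset_closure ⟨φ h, hK h hh, by simp⟩

theorem comm_le {φ : G ≃* G} {K : Subgroup G} (hK : Invariant φ K) : comm φ K ≤ K :=
  (Subgroup.closure_le _).2 fun _ ⟨h, hh, e⟩ => e ▸ K.mul_mem (K.inv_mem hh) (hK h hh)

theorem map_iterate {ψ : H ≃* H} {φ : G ≃* G} {f : H →* G} (hf : ∀ x, f (ψ x) = φ (f x))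
    (i : ℕ) (x : H) : f (ψ^[i] x) = φ^[i] (f x) := by
  induction i with
  | zero => rfl
  | succ i ih => rw [Function.iterate_succ_apply', Function.iterate_succ_apply', hf, ih]

theorem map_orb {ψ : H ≃* H} {φ : G ≃* G} {f : H →* G} (hf : ∀ x, f (ψ x) = φ (f x)) (k : H) :
    (orb ψ k).map f = orb φ (f k) := by
  rw [orb, orb, MonoidHom.map_closure]
  congr 1
  ext x
  simp only [Set.mem_image, Set.mem_setOf_eq]
  constructor
  · rintro ⟨_, ⟨i, rfl⟩, rfl⟩
    exact ⟨i, by rw [map_iterate hf, map_mul, map_inv, hf]⟩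
  · rintro ⟨i, rfl⟩
    exact ⟨_, ⟨i, rfl⟩, by rw [map_iterate hf, map_mul, map_inv, hf]⟩

theorem map_ncl {ψ : H ≃* H} {φ : G ≃* G} {f : H →* G} (hf : ∀ x, f (ψ x) = φ (f x)) (k u : H) :
    (ncl ψ k u).map f = ncl φ (f k) (f u) := by
  have hcl : (Subgroup.closure ((orb ψ k : Set H) ∪ {u})).map f
      = Subgroup.closure ((orb φ (f k) : Set G) ∪ {f u}) := by
    rw [MonoidHom.map_closure, Set.image_union, Set.image_singleton, ← Subgroup.coe_map,
      map_orb hf]
  rw [ncl, ncl, MonoidHom.map_closure, ← hcl, ← map_orb hf]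
  congr 1
  ext x
  simp only [Set.mem_image, Set.mem_setOf_eq, Subgroup.mem_map]
  constructor
  · rintro ⟨_, ⟨y, hy, b, hb, rfl⟩, rfl⟩
    exact ⟨f y, ⟨y, hy, rfl⟩, f b, ⟨b, hb, rfl⟩, by simp⟩
  · rintro ⟨_, ⟨y, hy, rfl⟩, _, ⟨b, hb, rfl⟩, rfl⟩
    exact ⟨_, ⟨y, hy, b, hb, rfl⟩, by simp⟩

theorem map_comm {ψ : H ≃* H} {φ : G ≃* G} {f : H →* G} (hf : ∀ x, f (ψ x) = φ (f x))
    (K : Subgroup H) : (comm ψ K).map f = comm φ (K.map f) := by
  rw [comm, comm, MonoidHom.map_closure]
  congr 1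
  ext x
  simp only [Set.mem_image, Set.mem_setOf_eq, Subgroup.mem_map]
  constructor
  · rintro ⟨_, ⟨h, hh, rfl⟩, rfl⟩
    exact ⟨f h, ⟨h, hh, rfl⟩, by rw [map_mul, map_inv, hf]⟩
  · rintro ⟨_, ⟨h, hh, rfl⟩, rfl⟩
    exact ⟨_, ⟨h, hh, rfl⟩, by rw [map_mul, map_inv, hf]⟩

section Finite

variable [Finite G]

/-- An invariant coset of an invariant subgroup of order prime to `p` has a fixed point. -/
theorem exists_fixed_coset {φ : G ≃* G} {p : ℕ} [Fact p.Prime] (hord : ∀ g, φ^[p] g = g)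
    {X : Subgroup G} (hX : Invariant φ X) (hcop : ¬ p ∣ Nat.card X) {g : G}
    (hg : g⁻¹ * φ g ∈ X) : ∃ c : G, φ c = c ∧ g⁻¹ * c ∈ X := by
  classical
  haveI := Fintype.ofFinite G
  have hstep : ∀ y : {y : G // g⁻¹ * y ∈ X}, g⁻¹ * φ y.1 ∈ X := fun y => by
    have h := X.mul_mem hg (hX _ y.2)
    rwa [map_mul, map_inv, show g⁻¹ * φ g * ((φ g)⁻¹ * φ y.1) = g⁻¹ * φ y.1 by group] at h
  let σ₀ : {y : G // g⁻¹ * y ∈ X} → {y : G // g⁻¹ * y ∈ X} := fun y => ⟨φ y.1, hstep y⟩
  have hinj : Function.Injective σ₀ := fun a b h =>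
    Subtype.ext (φ.injective (congrArg Subtype.val h))
  let σ : Equiv.Perm {y : G // g⁻¹ * y ∈ X} :=
    Equiv.ofBijective σ₀ (Finite.injective_iff_bijective.1 hinj)
  have hiter : ∀ (i : ℕ) (y), ((σ ^ i) y).1 = φ^[i] y.1 := by
    intro i
    induction i with
    | zero => intro y; rfl
    | succ i ih =>
      intro y
      rw [Function.iterate_succ_apply', pow_succ', Equiv.Perm.mul_apply, ← ih y]
      rfl
  have hσ : σ ^ p ^ 1 = 1 :=
    Equiv.ext fun y => Subtype.ext (by rw [pow_one, hiter, hord]; rfl)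
  have hcard : Fintype.card {y : G // g⁻¹ * y ∈ X} = Nat.card X := by
    rw [← Nat.card_eq_fintype_card]
    exact Nat.card_congr (Equiv.subtypeEquiv (Equiv.mulLeft g⁻¹) fun _ => Iff.rfl)
  obtain ⟨c, hc⟩ := Equiv.Perm.exists_fixed_point_of_prime (hcard ▸ hcop) hσ
  exact ⟨c.1, congrArg Subtype.val hc, c.2⟩

theorem not_dvd_card_le {p : ℕ} (hcop : ¬ p ∣ Nat.card G) (X : Subgroup G) :
    ¬ p ∣ Nat.card X := fun h => hcop (h.trans X.card_subgroup_dvd_card)

theorem exists_decomp {φ : G ≃* G} {p : ℕ} [Fact p.Prime] (hord : ∀ g, φ^[p] g = g)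
    (hcop : ¬ p ∣ Nat.card G) {K : Subgroup G} (hK : Invariant φ K) {h : G} (hh : h ∈ K) :
    ∃ c x : G, φ c = c ∧ c ∈ K ∧ x ∈ comm φ K ∧ h = c * x := by
  obtain ⟨c, hc, hcm⟩ := exists_fixed_coset hord (invariant_comm hK) (not_dvd_card_le hcop _)
    (g := h) (Subgroup.subset_closure ⟨h, hh, rfl⟩)
  refine ⟨c, (h⁻¹ * c)⁻¹, hc, ?_, (comm φ K).inv_mem hcm, by group⟩
  have := K.mul_mem hh (comm_le hK hcm)
  rwa [mul_inv_cancel_left] at this

theorem comm_comm {φ : G ≃* G} {p : ℕ} [Fact p.Prime] (hord : ∀ g, φ^[p] g = g)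
    (hcop : ¬ p ∣ Nat.card G) {K : Subgroup G} (hK : Invariant φ K) :
    comm φ (comm φ K) = comm φ K := by
  refine le_antisymm (comm_le (invariant_comm hK)) ((Subgroup.closure_le _).2 ?_)
  rintro _ ⟨h, hh, rfl⟩
  obtain ⟨c, x, hc, -, hx, rfl⟩ := exists_decomp hord hcop hK hh
  exact Subgroup.subset_closure ⟨x, hx, by rw [map_mul, hc]; group⟩

theorem mem_of_pow_mem {X : Subgroup G} {b : G} {m n : ℕ} (hmn : Nat.Coprime m n)
    (hm : b ^ m ∈ X) (hn : b ^ n ∈ X) : b ∈ X := by
  have h : b ^ ((Nat.gcd m n : ℕ) : ℤ) ∈ X := by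
    rw [Nat.gcd_eq_gcd_ab, zpow_add, zpow_mul, zpow_mul, zpow_natCast, zpow_natCast]
    exact X.mul_mem (X.zpow_mem hm _) (X.zpow_mem hn _)
  rwa [hmn.gcd_eq_one, Nat.cast_one, zpow_one] at h

theorem fixed_eq_one_aux (p : ℕ) [hp : Fact p.Prime] (hp2 : p ≠ 2) : ∀ (n : ℕ) (G : Type u) [Group G] [Finite G]
    [Group.IsSolvable G], Nat.card G = n → ¬ p ∣ Nat.card G → ∀ φ : G ≃* G,
      (∀ g, φ^[p] g = g) → comm φ ⊤ = ⊤ → NclFPF φ → ∀ u : G, φ u = u → u = 1 := by
  intro n
  induction n using Nat.strong_induction_on with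
  | _ n ih =>
  intro G _ _ _ hn hcop φ hord hgen hfpf u hu
  by_contra hu1
  subst hn
  haveI : Nontrivial G := ⟨⟨u, 1, hu1⟩⟩
  -- proper invariant subgroups
  have hsub : ∀ K : Subgroup G, Invariant φ K → K ≠ ⊤ → ∀ v ∈ comm φ K, φ v = v → v = 1 := by
    intro K hK hKtop v hv hfix
    set X := comm φ K with hX
    have hXi : Invariant φ X := invariant_comm hK
    have hXne : X ≠ ⊤ := fun h => hKtop (top_le_iff.1 (h ▸ comm_le hK))
    have hf : ∀ x : X, X.subtype (restr φ hXi x) = φ (X.subtype x) := fun x => coe_restr φ hXi x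
    have h1 := ih (Nat.card X) (card_lt_of_ne_top hXne) X rfl (not_dvd_card_le hcop X)
      (restr φ hXi) (fun g => Subtype.ext (by rw [coe_restr_iterate, hord])) (by
        apply Subgroup.map_injective X.subtype_injective
        rw [map_comm hf, ← MonoidHom.range_eq_map, Subgroup.range_subtype]
        exact comm_comm hord hcop hK)
      (fun k w hw x hx hfx => Subtype.ext (hfpf k w (by rw [← coe_restr φ hXi, hw]) x
        (by
          have := Subgroup.mem_map_of_mem X.subtype hx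
          rw [map_ncl hf] at this
          exact this)
        (by rw [← coe_restr φ hXi, hfx])))
      ⟨v, hv⟩ (Subtype.ext (by rw [coe_restr]; exact hfix))
    exact congrArg Subtype.val h1
  -- invariant normal subgroups
  have hquot : ∀ (N : Subgroup G) [N.Normal] (hN : Invariant φ N), N ≠ ⊥ →
      IsFPF (quot φ hN) p ∧ ∀ v, φ v = v → v ∈ N := by
    intro N _ hN hNne
    have hf : ∀ x : G, QuotientGroup.mk' N (φ x) = quot φ hN (QuotientGroup.mk' N x) :=
      fun x => (quot_mk φ hN x).symm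
    have hqord : ∀ g : G ⧸ N, (quot φ hN)^[p] g = g := fun g => by
      obtain ⟨x, rfl⟩ := QuotientGroup.mk'_surjective N g
      rw [← map_iterate hf, hord]
    have hfix : ∀ g : G ⧸ N, quot φ hN g = g → g = 1 := by
      refine ih (Nat.card (G ⧸ N)) (card_quot_lt hNne) (G ⧸ N) rfl
        (fun h => hcop (h.trans N.card_quotient_dvd_card)) _ hqord ?_ ?_
      · rw [← Subgroup.map_top_of_surjective _ (QuotientGroup.mk'_surjective N), ← map_comm hf,
          hgen]
      · intro k w hw x hx hfx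
        obtain ⟨k, rfl⟩ := QuotientGroup.mk'_surjective N k
        obtain ⟨w, rfl⟩ := QuotientGroup.mk'_surjective N w
        rw [← hf] at hw
        obtain ⟨c, hc, hcN⟩ := exists_fixed_coset hord hN (not_dvd_card_le hcop N)
          (g := w) ((QuotientGroup.eq.1 hw.symm))
        have hwc : QuotientGroup.mk' N w = QuotientGroup.mk' N c := QuotientGroup.eq.2 hcN
        rw [hwc, ← map_ncl hf] at hx
        obtain ⟨m, hm, rfl⟩ := hx
        rw [← hf] at hfx
        have hmN : m⁻¹ * φ m ∈ N ⊓ ncl φ k c :=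
          Subgroup.mem_inf.2 ⟨QuotientGroup.eq.1 hfx.symm,
            Subgroup.mul_mem _ (Subgroup.inv_mem _ hm) (invariant_ncl hc m hm)⟩
        obtain ⟨d, hd, hdm⟩ := exists_fixed_coset hord (X := N ⊓ ncl φ k c)
          (fun y hy => ⟨hN y hy.1, invariant_ncl hc y hy.2⟩) (not_dvd_card_le hcop _) hmN
        have hd1 : d = 1 := hfpf k c hc d (by
          have := mul_mem hm hdm.2
          rwa [mul_inv_cancel_left] at this) hd
        rw [hd1, mul_one] at hdm
        have hm1 : m⁻¹ ∈ N := (Subgroup.mem_inf.1 hdm).1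
        exact (QuotientGroup.eq_one_iff m).2 (N.inv_mem_iff.1 hm1)
    refine ⟨⟨hfix, hqord⟩, fun v hv => (QuotientGroup.eq_one_iff v).1 (hfix _ ?_)⟩
    rw [quot_mk, hv]
  -- a minimal invariant normal subgroup
  let S : Set (Subgroup G) := {N | N.Normal ∧ Invariant φ N ∧ N ≠ ⊥}
  have hS : S.Nonempty := ⟨⊤, inferInstance, fun _ _ => Subgroup.mem_top _, top_ne_bot⟩
  obtain ⟨Z, hZ⟩ := (Set.toFinite S).exists_minimal hS
  obtain ⟨⟨hZn, hZi, hZne⟩, hZmin⟩ := hZ
  have hZmin' : ∀ N : Subgroup G, N.Normal → Invariant φ N → N ≠ ⊥ → N ≤ Z → N = Z :=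
    fun N h1 h2 h3 h4 => le_antisymm h4 (hZmin ⟨h1, h2, h3⟩ h4)
  have huniq : ∀ N : Subgroup G, N.Normal → Invariant φ N → N ≠ ⊥ → Z ≤ N := by
    intro N h1 h2 h3
    haveI := hZn
    haveI := h1
    have h4 : u ∈ Z ⊓ N := ⟨(hquot Z hZi hZne).2 u hu, (hquot N h2 h3).2 u hu⟩
    have h5 : Z ⊓ N ≠ ⊥ := fun h => hu1 (by rwa [h, Subgroup.mem_bot] at h4)
    exact (hZmin' (Z ⊓ N) inferInstance (fun y hy => ⟨hZi y hy.1, h2 y hy.2⟩) h5 inf_le_left).ge.trans
      inf_le_right
  haveI := hZn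
  obtain ⟨hQfpf, hfixZ⟩ := hquot Z hZi hZne
  -- `Z` is an elementary abelian `r`-group
  have hZab : ∀ x ∈ Z, ∀ y ∈ Z, x * y = y * x := by
    have hlt : ⁅Z, Z⁆ < Z := CfsgLib.CoprimeAction.commutator_lt_of_isSolvable Z hZne
    have hinv : Invariant φ ⁅Z, Z⁆ := invariant_of_map_eq (by
      rw [Subgroup.map_commutator, map_eq hZi])
    have hbot : ⁅Z, Z⁆ = ⊥ := by
      by_contra h
      exact hlt.ne (hZmin' _ (Subgroup.commutator_normal Z Z) hinv h hlt.le)
    intro x hx y hy
    exact (commutatorElement_eq_one_iff_mul_comm).1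
      (Subgroup.mem_bot.1 (hbot ▸ Subgroup.commutator_mem_commutator hx hy))
  obtain ⟨r, hr, hrd⟩ := Nat.exists_prime_and_dvd
    (show Nat.card Z ≠ 1 from fun h => hZne (Subgroup.card_eq_one.1 h))
  haveI : Fact r.Prime := ⟨hr⟩
  have hexp : ∀ z ∈ Z, z ^ r = 1 := by
    let T : Subgroup G :=
      { carrier := {z | z ∈ Z ∧ z ^ r = 1}
        one_mem' := ⟨one_mem _, one_pow r⟩
        mul_mem' := fun {a b} ha hb => ⟨mul_mem ha.1 hb.1, by
          rw [(show Commute a b from hZab a ha.1 b hb.1).mul_pow, ha.2, hb.2, one_mul]⟩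
        inv_mem' := fun {a} ha => ⟨inv_mem ha.1, by rw [inv_pow, ha.2, inv_one]⟩ }
    have hTn : T.Normal := ⟨fun z hz g => ⟨hZn.conj_mem z hz.1 g, by
      rw [conj_pow, hz.2, mul_one, mul_inv_cancel]⟩⟩
    have hTi : Invariant φ T := fun z hz => ⟨hZi z hz.1, by rw [← map_pow, hz.2, map_one]⟩
    have hTne : T ≠ ⊥ := by
      obtain ⟨z, hz⟩ := exists_prime_orderOf_dvd_card' (G := Z) r hrd
      intro h
      have hmem : (z : G) ∈ T := ⟨z.2, by
        have := congrArg Subtype.val (hz ▸ pow_orderOf_eq_one z)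
        simpa using this⟩
      rw [h, Subgroup.mem_bot, OneMemClass.coe_eq_one] at hmem
      rw [hmem, orderOf_one] at hz
      exact hr.one_lt.ne hz
    intro z hz
    exact ((hZmin' T hTn hTi hTne fun _ h => h.1).ge hz).2
  have hZp : IsPGroup r Z := fun z => ⟨1, Subtype.ext (by rw [pow_one]; exact hexp z z.2)⟩
  -- the quotient is nilpotent
  haveI hQnil : Group.IsNilpotent (G ⧸ Z) :=
    isNilpotent_of_isSolvable hp.out inferInstance _ hQfpf
  let π := QuotientGroup.mk' Z
  let R : Subgroup G := (Cfsg.pCore r (G ⧸ Z)).comap π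
  haveI hRn : R.Normal := (Cfsg.pCore_normal r (G ⧸ Z)).comap π
  have hRp : IsPGroup r R := (CfsgLib.Cores.isPGroup_pCore r _).comap_of_ker_isPGroup _
    (by rw [QuotientGroup.ker_mk']; exact hZp)
  have hRi : Invariant φ R := fun x hx => by
    have h2 := invariant_of_characteristic (quot φ hZi) (Cfsg.pCore r (G ⧸ Z))
      (hH := CfsgLib.Cores.pCore_characteristic r _) _ hx
    show QuotientGroup.mk' Z (φ x) ∈ Cfsg.pCore r (G ⧸ Z)
    exact h2
  have hRmem : ∀ b : G, (∃ k : ℕ, b ^ r ^ k = 1) → b ∈ R := by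
    rintro b ⟨k, hk⟩
    obtain ⟨P⟩ : Nonempty (Sylow r (G ⧸ Z)) := inferInstance
    show π b ∈ Cfsg.pCore r (G ⧸ Z)
    have hzp : IsPGroup r (Subgroup.zpowers (π b)) := by
      rintro ⟨_, j, rfl⟩
      refine ⟨k, Subtype.ext ?_⟩
      show ((π b) ^ j) ^ r ^ k = 1
      rw [← zpow_natCast, ← zpow_mul, mul_comm, zpow_mul, zpow_natCast, ← map_pow, hk, map_one,
        one_zpow]
    obtain ⟨P', hP'⟩ := hzp.exists_le_sylow
    rw [CfsgLib.Cores.pCore_eq_sylow_of_normal P']
    exact hP' (Subgroup.mem_zpowers _)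
  have hRZ : ∀ b ∈ R, ∀ z ∈ Z, b * z = z * b := by
    let W : Subgroup G := Z ⊓ Subgroup.centralizer (R : Set G)
    have hWi : Invariant φ W := fun x hx => ⟨hZi x hx.1, invariant_centralizer hRi x hx.2⟩
    have hWne : W ≠ ⊥ := by
      haveI : Group.IsNilpotent R := hRp.isNilpotent
      have hZR : Z ≤ R := fun z hz => by
        show π z ∈ Cfsg.pCore r (G ⧸ Z)
        rw [show π z = 1 from (QuotientGroup.eq_one_iff z).2 hz]
        exact one_mem _
      have h1 := CfsgLib.PSolvable.inf_center_ne_bot (G := R) (N := Z.subgroupOf R) (fun h => hZne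
        (le_bot_iff.1 (by rw [← Subgroup.map_subgroupOf_eq_of_le hZR, h, Subgroup.map_bot])))
      intro hW
      refine h1 ((Subgroup.eq_bot_iff_forall _).2 fun x hx => Subtype.ext ?_)
      refine Subgroup.mem_bot.1 (hW ▸ (⟨hx.1, ?_⟩ : (x : G) ∈ W))
      exact Subgroup.mem_centralizer_iff.2 fun b hb =>
        congrArg Subtype.val (Subgroup.mem_center_iff.1 hx.2 ⟨b, hb⟩)
    have hWZ := hZmin' W inferInstance hWi hWne inf_le_left
    intro b hb z hz
    exact Subgroup.mem_centralizer_iff.1 (hWZ.ge hz).2 b hb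
  -- fixed points are central
  have hcen : ∀ v : G, φ v = v → v ∈ Subgroup.center G := by
    intro v hv
    have hvZ := hfixZ v hv
    have hle : comm φ ⊤ ≤ Subgroup.centralizer ({v} : Set G) := by
      refine (Subgroup.closure_le _).2 ?_
      rintro _ ⟨k, -, rfl⟩
      set b := k⁻¹ * φ k with hbdef
      set N := ncl φ k v with hNdef
      have hNi : Invariant φ N := invariant_ncl hv
      haveI hNnil : Group.IsNilpotent N := isNilpotent_of_isSolvable hp.out inferInstance
        (restr φ hNi) ⟨fun g hg => Subtype.ext (hfpf k v hv g g.2 (by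
          rw [← coe_restr φ hNi g, hg])), fun g => Subtype.ext (by rw [coe_restr_iterate, hord])⟩
      obtain ⟨e, he, her⟩ : ∃ e, orderOf b = r ^ (Nat.factorization (orderOf b) r) * e ∧
          Nat.Coprime r e :=
        ⟨orderOf b / r ^ (Nat.factorization (orderOf b) r),
          (Nat.ordProj_mul_ordCompl_eq_self _ r).symm,
          Nat.coprime_ordCompl hr (orderOf_pos b).ne'⟩
      have hec : Nat.Coprime (r ^ (Nat.factorization (orderOf b) r)) e := her.pow_left _
      have hbN : b ∈ N := orb_le_ncl φ k v (self_mem_orb φ k)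
      set b' := b ^ (r ^ (Nat.factorization (orderOf b) r)) with hb'
      have hrpart : b ^ e ∈ Subgroup.centralizer ({v} : Set G) :=
        Subgroup.mem_centralizer_singleton_iff.2 (hRZ _ (hRmem _ ⟨_, by
          rw [← pow_mul, mul_comm, ← he, pow_orderOf_eq_one]⟩) v hvZ)
      have hb'N : b' ∈ N := pow_mem hbN _
      have hb'e : b' ^ e = 1 := by rw [hb', ← pow_mul, ← he, pow_orderOf_eq_one]
      have hvN : v * b' * v⁻¹ ∈ N := Subgroup.subset_closure
        ⟨v, Subgroup.subset_closure (Or.inr rfl), b', pow_mem (self_mem_orb φ k) _, rfl⟩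
      set t := v * b' * v⁻¹ * b'⁻¹ with ht
      have htN : t ∈ N := mul_mem hvN (inv_mem hb'N)
      have htZ : t ∈ Z := by
        rw [ht, show v * b' * v⁻¹ * b'⁻¹ = v * (b' * v⁻¹ * b'⁻¹) by group]
        exact mul_mem hvZ (hZn.conj_mem _ (inv_mem hvZ) _)
      have htb : Commute t b' := by
        have hcop' : (orderOf (⟨t, htN⟩ : N)).Coprime (orderOf (⟨b', hb'N⟩ : N)) := by
          refine Nat.Coprime.coprime_dvd_left (orderOf_dvd_of_pow_eq_one (n := r)
            (Subtype.ext (hexp t htZ))) (Nat.Coprime.coprime_dvd_right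
            (orderOf_dvd_of_pow_eq_one (n := e) (Subtype.ext hb'e)) ?_)
          exact her
        exact congrArg Subtype.val (CfsgLib.BGAppendix.commute_of_coprime_orderOf N _ _ hcop').eq
      have htv : t ^ e = 1 := by
        have h3 : (v * b' * v⁻¹) ^ e = (t * b') ^ e := by rw [ht]; group
        rw [conj_pow, hb'e, mul_one, mul_inv_cancel, htb.mul_pow, hb'e, mul_one] at h3
        exact h3.symm
      have ht1 : t = 1 := by
        refine Subgroup.mem_bot.1 (mem_of_pow_mem (X := ⊥) (m := e) (n := r) ?_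
          (Subgroup.mem_bot.2 htv) (Subgroup.mem_bot.2 (hexp t htZ)))
        exact her.symm
      have hpart : b' ∈ Subgroup.centralizer ({v} : Set G) := by
        refine Subgroup.mem_centralizer_singleton_iff.2 ?_
        rw [ht, mul_inv_eq_one, mul_inv_eq_iff_eq_mul] at ht1
        exact ht1.symm
      exact mem_of_pow_mem hec hpart hrpart
    rw [hgen] at hle
    exact Subgroup.mem_center_iff.2 fun g =>
      Subgroup.mem_centralizer_singleton_iff.1 (hle (Subgroup.mem_top g))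
  -- `Z` is central, fixed, and `G` is an `r`-group
  have hZc : Z ≤ Subgroup.center G ∧ ∀ z ∈ Z, φ z = z := by
    let F : Subgroup G :=
      { carrier := {z | z ∈ Z ∧ φ z = z}
        one_mem' := ⟨one_mem _, map_one φ⟩
        mul_mem' := fun {a b} ha hb => ⟨mul_mem ha.1 hb.1, by rw [map_mul, ha.2, hb.2]⟩
        inv_mem' := fun {a} ha => ⟨inv_mem ha.1, by rw [map_inv, ha.2]⟩ }
    have hFn : F.Normal := ⟨fun z hz g => by
      rw [Subgroup.mem_center_iff.1 (hcen z hz.2) g, mul_inv_cancel_right]; exact hz⟩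
    have hFne : F ≠ ⊥ := fun h => hu1 (Subgroup.mem_bot.1 (h ▸ (⟨hfixZ u hu, hu⟩ : u ∈ F)))
    have hF := hZmin' F hFn (fun z hz => by show φ z ∈ F; rw [hz.2]; exact hz) hFne fun _ h => h.1
    exact ⟨fun z hz => hcen z (hF.ge hz).2, fun z hz => (hF.ge hz).2⟩
  haveI hGnil : Group.IsNilpotent G := Subgroup.isNilpotent_of_ker_le_center π
    (by rw [QuotientGroup.ker_mk']; exact hZc.1)
  have hGp : IsPGroup r G := by
    obtain ⟨P⟩ : Nonempty (Sylow r G) := inferInstance
    by_contra hne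
    obtain ⟨q, hq, hqd, hqr⟩ : ∃ q, q.Prime ∧ q ∣ Nat.card G ∧ q ≠ r := by
      by_contra h
      push_neg at h
      exact hne (IsPGroup.of_card (n := (Nat.card G).primeFactorsList.length)
        (Nat.eq_prime_pow_of_unique_prime_dvd Nat.card_pos.ne' fun {d} hd hdd => h d hd hdd))
    haveI : Fact q.Prime := ⟨hq⟩
    obtain ⟨Q⟩ : Nonempty (Sylow q G) := inferInstance
    have hQne : Cfsg.pCore q G ≠ ⊥ := by
      rw [CfsgLib.Cores.pCore_eq_sylow_of_normal Q]
      exact Q.ne_bot_of_dvd_card hqd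
    have hle := huniq (Cfsg.pCore q G) (Cfsg.pCore_normal q G)
      (invariant_of_characteristic φ _ (hH := CfsgLib.Cores.pCore_characteristic q G)) hQne
    exact hZne (le_bot_iff.1 ((CfsgLib.Cores.disjoint_pCore_of_ne hqr).le_bot.trans' (le_inf hle
      (CfsgLib.Cores.le_pCore hZp))))
  -- the Frattini subgroup
  let Φ : Subgroup G := frattini G
  have hΦi : Invariant φ Φ := invariant_of_characteristic φ _
  have hΦtop : Φ ≠ ⊤ := fun h => by
    obtain h' | ⟨M, hM, -⟩ := eq_top_or_exists_le_coatom (⊥ : Subgroup G)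
    · exact bot_ne_top h'
    · exact hM.1 (top_le_iff.1 (h.ge.trans (frattini_le_coatom hM)))
  have hKne : ∀ k : G, orb φ k ≠ ⊤ := fun k h =>
    hu1 (hfpf k 1 (map_one φ) u (orb_le_ncl φ k 1 (h.ge (Subgroup.mem_top u))) hu)
  let Φ₁ : Subgroup G := comm φ Φ
  have hΦ₁ : ∀ k : G, ∀ b ∈ orb φ k, ∀ x ∈ Φ₁, b * x * b⁻¹ ∈ Φ₁ := by
    intro k
    set W := orb φ k ⊔ Φ with hWdef
    have hWi : Invariant φ W := by
      rw [hWdef, Subgroup.sup_eq_closure]
      refine invariant_closure φ ?_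
      rintro z (hz | hz)
      · exact Subgroup.subset_closure (Or.inl (invariant_orb φ k z hz))
      · exact Subgroup.subset_closure (Or.inr (hΦi z hz))
    have hWne : W ≠ ⊤ := fun h => hKne k (frattini_nongenerating h)
    have hfree := hsub W hWi hWne
    have hle1 : Φ₁ ≤ comm φ W := Subgroup.closure_mono
      (fun x ⟨h, hh, e⟩ => ⟨h, (le_sup_right : Φ ≤ W) hh, e⟩)
    have hB : orb φ k ≤ comm φ W := by
      intro b hb
      have hBfpf : IsFPF (restr φ (invariant_orb φ k)) p :=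
        ⟨fun g hg => Subtype.ext (hfpf k 1 (map_one φ) g (orb_le_ncl φ k 1 g.2) (by
          rw [← coe_restr φ (invariant_orb φ k) g, hg])),
          fun g => Subtype.ext (by rw [coe_restr_iterate, hord])⟩
      obtain ⟨x, hx⟩ := commutatorMap_surjective hBfpf ⟨b, hb⟩
      refine Subgroup.subset_closure
        ⟨(x⁻¹ : orb φ k), (le_sup_left : orb φ k ≤ W) (x⁻¹).2, ?_⟩
      have := congrArg Subtype.val hx
      simp only [Subgroup.coe_mul, Subgroup.coe_inv, coe_restr] at this
      rw [← this]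
      simp
    intro b hb x hx
    have hbx : b * x * b⁻¹ ∈ comm φ W :=
      mul_mem (mul_mem (hB hb) (hle1 hx)) (inv_mem (hB hb))
    have hbxΦ : b * x * b⁻¹ ∈ Φ :=
      (inferInstance : Φ.Normal).conj_mem x (comm_le hΦi hx) b
    obtain ⟨c, y, hc, -, hy, he⟩ := exists_decomp hord hcop hΦi hbxΦ
    have hcW : c ∈ comm φ W := by
      have : c = b * x * b⁻¹ * y⁻¹ := by rw [he, mul_inv_cancel_right]
      exact this ▸ mul_mem hbx (inv_mem (hle1 hy))
    rw [he, hfree c hcW hc, one_mul]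
    exact hy
  have hΦ₁bot : Φ₁ = ⊥ := by
    by_contra h
    have hn1 : Φ₁.Normal := by
      refine Subgroup.normalizer_eq_top_iff.1 (top_le_iff.1 ?_)
      rw [← hgen]
      refine (Subgroup.closure_le _).2 ?_
      rintro _ ⟨k, -, rfl⟩
      exact CfsgLib.CoprimeAction.mem_normalizer_of_conj_mem fun x hx =>
        hΦ₁ k _ (self_mem_orb φ k) x hx
    have hle := huniq Φ₁ hn1 (invariant_comm hΦi) h
    exact hu1 (hsub Φ hΦi hΦtop u (hle (hfixZ u hu)) hu)
  have hΦfix : ∀ x ∈ Φ, φ x = x ∧ x ∈ Z ∧ x ∈ Subgroup.center G := by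
    intro x hx
    obtain ⟨c, y, hc, -, hy, rfl⟩ := exists_decomp hord hcop hΦi hx
    rw [show y = 1 from Subgroup.mem_bot.1 (hΦ₁bot ▸ hy), mul_one]
    exact ⟨hc, hfixZ c hc, hcen c hc⟩
  have hcommΦ : ∀ x y : G, x * y * x⁻¹ * y⁻¹ ∈ Φ := fun x y =>
    CfsgLib.PGroups.commutatorElement_mem_frattini hGp x y
  -- `g` commutes with `φ g`
  have hcomm : ∀ g : G, g * φ g = φ g * g := by
    intro g
    obtain ⟨x, hx⟩ := commutatorMap_surjective hQfpf (g : G ⧸ Z)
    obtain ⟨x, rfl⟩ := QuotientGroup.mk'_surjective Z x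
    set k := x⁻¹ with hk
    set w := k⁻¹ * φ k with hw
    have hz : g⁻¹ * w ∈ Z := by
      rw [← QuotientGroup.eq, ← hx, hw, hk, inv_inv, map_inv]
      rfl
    have hwB : w ∈ orb φ k := self_mem_orb φ k
    have hφwB : φ w ∈ orb φ k := invariant_orb φ k w hwB
    set t := w * φ w * w⁻¹ * (φ w)⁻¹ with ht
    have ht1 : t = 1 := hfpf k 1 (map_one φ) t (orb_le_ncl φ k 1
      (mul_mem (mul_mem (mul_mem hwB hφwB) (inv_mem hwB)) (inv_mem hφwB)))
      (hΦfix t (hcommΦ w (φ w))).1
    rw [ht, mul_inv_eq_one, mul_inv_eq_iff_eq_mul] at ht1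
    obtain ⟨z, hzZ, rfl⟩ : ∃ z ∈ Z, g = w * z :=
      ⟨(g⁻¹ * w)⁻¹, inv_mem hz, by group⟩
    have hzc : ∀ a, a * z = z * a := fun a => Subgroup.mem_center_iff.1 (hZc.1 hzZ) a
    rw [map_mul, hZc.2 z hzZ]
    calc w * z * (φ w * z) = w * φ w * (z * z) := by
          rw [show w * z * (φ w * z) = w * (z * φ w) * z by group, ← hzc (φ w)]; group
      _ = φ w * w * (z * z) := by rw [ht1]
      _ = φ w * z * (w * z) := by
          rw [show φ w * z * (w * z) = φ w * (z * w) * z by group, ← hzc w]; group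
  -- bilinearity
  let K : G → G → G := fun x y => x * y * x⁻¹ * y⁻¹
  have hKc : ∀ x y a, a * K x y = K x y * a := fun x y a =>
    Subgroup.mem_center_iff.1 (hΦfix _ (hcommΦ x y)).2.2 a
  have hKr : ∀ x y z, K x (y * z) = K x y * K x z := by
    intro x y z
    calc K x (y * z) = x * y * x⁻¹ * (K x z) * y⁻¹ := by simp only [K]; group
      _ = x * y * x⁻¹ * (y⁻¹ * K x z) := by rw [hKc x z y⁻¹]; group
      _ = K x y * K x z := by simp only [K]; group
  have hKl : ∀ x y z, K (x * y) z = K x z * K y z := by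
    intro x y z
    calc K (x * y) z = x * (K y z) * (z * x⁻¹ * z⁻¹) := by simp only [K]; group
      _ = K y z * x * (z * x⁻¹ * z⁻¹) := by rw [hKc y z x]
      _ = K y z * K x z := by simp only [K]; group
      _ = K x z * K y z := (hKc x z _)
  have hKinv : ∀ x y, K y x = (K x y)⁻¹ := fun x y => by simp only [K]; group
  have hKself : ∀ g, K g (φ g) = 1 := fun g => by
    simp only [K]; rw [hcomm g]; group
  have hkey : ∀ x y, K x (φ (φ y)) = K x y := by
    intro x y
    have h := hKself (x * φ y)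
    rw [map_mul, hKl, hKr, hKr, hKself, hKself, one_mul, mul_one, mul_eq_one_iff_eq_inv,
      ← hKinv] at h
    rw [h, show K (φ x) (φ y) = φ (K x y) by simp only [K, map_mul, map_inv],
      (hΦfix _ (hcommΦ x y)).1]
  have hab : ∀ g : G, g ∈ Subgroup.center G := by
    intro g
    rcases Nat.Prime.eq_two_or_odd' hp.out with rfl | hodd
    · exact absurd rfl hp2
    · -- `φ ∘ φ` is fixed-point-free modulo `Z`
      have hfix2 : ∀ q : G ⧸ Z, quot φ hZi (quot φ hZi q) = q → q = 1 := fun q hq =>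
        hQfpf.1 q (by
          obtain ⟨i, hi⟩ := hodd
          have h2i : ∀ i : ℕ, (quot φ hZi)^[2 * i] q = q := by
            intro i
            induction i with
            | zero => rfl
            | succ i ih =>
              rw [Nat.mul_succ, Function.iterate_add_apply]
              show (quot φ hZi)^[2 * i] (quot φ hZi (quot φ hZi q)) = q
              rw [hq, ih]
          have := hQfpf.2 q
          rw [hi, add_comm, Function.iterate_add_apply, h2i, Function.iterate_one] at this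
          exact this)
      obtain ⟨y, hy⟩ := MonoidHom.FixedPointFree.commutatorMap_surjective
        (φ := ((quot φ hZi).trans (quot φ hZi)).toMonoidHom) hfix2 (g : G ⧸ Z)
      obtain ⟨y, rfl⟩ := QuotientGroup.mk'_surjective Z y
      have hyz : (y * (φ (φ y))⁻¹)⁻¹ * g ∈ Z := by
        rw [← QuotientGroup.eq, ← hy]
        simp only [MonoidHom.commutatorMap, div_eq_mul_inv]
        rfl
      have hc : y * (φ (φ y))⁻¹ ∈ Subgroup.center G := by
        refine Subgroup.mem_center_iff.2 fun x => ?_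
        have h1 : K x (y * (φ (φ y))⁻¹) = 1 := by
          have h2 : K x ((φ (φ y))⁻¹) = (K x (φ (φ y)))⁻¹ := by
            apply eq_inv_of_mul_eq_one_left
            rw [← hKr, inv_mul_cancel]
            simp [K]
          rw [hKr, h2, hkey, mul_inv_cancel]
        simp only [K, mul_inv_eq_one, mul_inv_eq_iff_eq_mul] at h1
        simpa using h1
      have := mul_mem hc (hZc.1 hyz)
      rwa [mul_inv_cancel_left] at this
  -- abelian: the commutator map is an endomorphism
  let ψ : G →* G :=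
    { toFun := fun g => g⁻¹ * φ g
      map_one' := by simp
      map_mul' := fun a b => by
        rw [map_mul, mul_inv_rev]
        calc b⁻¹ * a⁻¹ * (φ a * φ b) = b⁻¹ * ((a⁻¹ * φ a) * φ b) := by group
          _ = b⁻¹ * (φ b * (a⁻¹ * φ a)) := by rw [Subgroup.mem_center_iff.1 (hab (φ b)) (a⁻¹ * φ a)]
          _ = (b⁻¹ * φ b) * (a⁻¹ * φ a) := by group
          _ = (a⁻¹ * φ a) * (b⁻¹ * φ b) := (Subgroup.mem_center_iff.1 (hab _) _) }
  have hsurj : Function.Surjective ψ := by
    rw [← MonoidHom.range_eq_top, eq_top_iff, ← hgen]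
    exact (Subgroup.closure_le _).2 fun x ⟨h, _, e⟩ => ⟨h, e.symm⟩
  have hinj : Function.Injective ψ := Finite.injective_iff_surjective.2 hsurj
  exact hu1 (hinj (by show u⁻¹ * φ u = 1⁻¹ * φ 1; rw [hu]; simp))

/-- A coprime automorphism of prime order of a soluble group generated by its commutators has
no fixed points and the group is nilpotent, if the normal closures are fixed-point-free. -/
theorem isFPF_of_nclFPF [Group.IsSolvable G] {p : ℕ} [Fact p.Prime] (hp2 : p ≠ 2)
    (hcop : ¬ p ∣ Nat.card G) {φ : G ≃* G} (hord : ∀ g, φ^[p] g = g) (hgen : comm φ ⊤ = ⊤) (hfpf : NclFPF φ) :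
    IsFPF φ p ∧ Group.IsNilpotent G :=
  have h : IsFPF φ p := ⟨fixed_eq_one_aux p hp2 _ G rfl hcop φ hord hgen hfpf, hord⟩
  ⟨h, isNilpotent_of_isSolvable Fact.out inferInstance φ h⟩

end Finite

end CfsgLib.MetacyclicP.TwoGen
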